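import Groth.Agent.AffPushPCLib.Square
import Groth.Agent.TildePCLib.Main
import Groth.Agent.TildeDerLib.Push
import Groth.Agent.TwoTermLib.Restr
import Groth.Agent.PerfLib.PCohSummand

/-!
# Pseudo-coherence and affine pushforward
-/

set_option autoImplicit false
set_option linter.style.haveILetI false
set_option backward.isDefEq.respectTransparency false
set_option backward.isDefEq.respectTransparency.types false
set_option maxHeartbeats 1000000

universe u

open CategoryTheory CategoryTheory.Limits AlgebraicGeometry Opposite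

attribute [local instance] HasDerivedCategory.standard

namespace Groth.Agent.AffPushPCLib

open Groth.Agent.PerfLib (resD res)
open Groth.Agent.DerLib

variable {X Y : Scheme.{u}}

/-- Restriction of quasi-coherent cohomology. -/
theorem isQCohD_res (j : X ⟶ Y) [IsOpenImmersion j] {E : DCoh.D Y} (h : DCoh.IsQCohD E) :
    DCoh.IsQCohD ((resD j).obj E) := fun i => by
  haveI := h i
  haveI := KFlatLib.isQCoh_pullback j (DCoh.HD E i)
  exact QCohLib.isQCoh_of_iso (Groth.Agent.PerfLib.resHDIso j E i ≪≫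
    (Scheme.Modules.restrictFunctorIsoPullback j).app _).symm

/-- Restriction commutes with the inclusion of modules in degree zero. -/
noncomputable def resInD (j : X ⟶ Y) [IsOpenImmersion j] (M : Y.Modules) :
    (resD j).obj (DCoh.inD Y M) ≅ DCoh.inD X ((res j).obj M) :=
  ((res j).mapDerivedCategorySingleFunctor 0).app M

section

variable (f : X ⟶ Y) [IsAffineHom f] [DCoh.HasRpush f] (V : Y.Opens) (hV : IsAffineOpen V)

include hV in
/-- Over an affine open, pushforward is restriction of scalars. -/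
theorem exists_chart :
    ∃ (A B : CommRingCat.{u}) (j : Spec A ⟶ Y) (_ : IsOpenImmersion j) (k : Spec B ⟶ X)
      (_ : IsOpenImmersion k) (φ : A ⟶ B),
      Set.range j = (V : Set Y) ∧ Set.range k = ((f ⁻¹ᵁ V : X.Opens) : Set X) ∧
      Nonempty ((res j).obj ((Scheme.Modules.pushforward f).obj (Coh.structureModule X)) ≅
        (tilde.functor A).obj ((ModuleCat.restrictScalars.{u} φ.hom).obj (ModuleCat.of B B))) ∧
      ∀ [PreservesFiniteLimits (tilde.functor A)] [PreservesFiniteLimits (tilde.functor B)] (E : DCoh.D X)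
        (M : Dual.D B),
        Nonempty ((resD k).obj E ≅ (DCoh.tildeD B).obj M) →
        Nonempty ((resD j).obj ((DCoh.Rpush f).obj E) ≅
          (DCoh.tildeD A).obj ((DRing.restrictD φ.hom).obj M)) := by
  have hU : IsAffineOpen (f ⁻¹ᵁ V) := hV.preimage f
  let a := hV.isoSpec.inv
  let b := hU.isoSpec.inv
  let φ : Γ(Y, V) ⟶ Γ(X, f ⁻¹ᵁ V) := Spec.preimage (b ≫ (f ∣_ V) ≫ hV.isoSpec.hom)
  have hsq : Spec.map φ ≫ a = b ≫ (f ∣_ V) := by
    rw [Spec.map_preimage, Category.assoc, Category.assoc, Iso.hom_inv_id, Category.comp_id]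
  refine ⟨_, _, a ≫ V.ι, inferInstance, b ≫ (f ⁻¹ᵁ V).ι, inferInstance, φ, ?_, ?_, ?_, ?_⟩
  · rw [IsAffineOpen.isoSpec_inv_ι]
    exact hV.range_fromSpec
  · rw [IsAffineOpen.isoSpec_inv_ι]
    exact hU.range_fromSpec
  · obtain ⟨θ⟩ := TildeDerLib.nonempty_pushTildeIso φ
    exact ⟨(Scheme.Modules.restrictFunctorComp a V.ι).app _ ≪≫
      (res a).mapIso ((DCohRestrLib.restrictPushIso f V).app _) ≪≫
      (squareIso (f ∣_ V) (Spec.map φ) a b hsq).app _ ≪≫
      (Scheme.Modules.pushforward (Spec.map φ)).mapIso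
        (((Scheme.Modules.restrictFunctorComp b (f ⁻¹ᵁ V).ι).app (Coh.structureModule X)).symm ≪≫
          (Scheme.Modules.restrictFunctorIsoPullback (b ≫ (f ⁻¹ᵁ V).ι)).app _ ≪≫
          KFlatLib.pullUnitIso (b ≫ (f ⁻¹ᵁ V).ι) ≪≫ tildeSelf.symm) ≪≫
      θ.app _⟩
  · intro _ _ E M hM
    obtain ⟨eM⟩ := hM
    haveI : ∀ (S T : Scheme.{u}) (q : S ⟶ T) [IsOpenImmersion q],
        PreservesFiniteLimits (Scheme.Modules.restrictFunctor q) := fun S T q _ => inferInstance
    haveI := KInjDerived.hasRightDerivedFunctor (DCoh.pushKh (f ∣_ V))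
      (KFlatLib.enoughKInj_modules (X := (f ⁻¹ᵁ V : X.Opens).toScheme))
    haveI := KInjDerived.hasRightDerivedFunctor (DCoh.pushKh (Spec.map φ))
      (KFlatLib.enoughKInj_modules (X := Spec Γ(X, f ⁻¹ᵁ V)))
    obtain ⟨c₁⟩ := Groth.Agent.PerfLib.nonempty_resD_comp a V.ι ((DCoh.Rpush f).obj E)
    obtain ⟨c₂⟩ := Groth.Agent.PerfLib.nonempty_resD_comp b (f ⁻¹ᵁ V).ι E
    obtain ⟨d₁⟩ := DCohRestrLib.nonempty_restrictD_Rpush f V
    obtain ⟨d₂⟩ := nonempty_resIso_Rpush (f ∣_ V) (Spec.map φ) a b hsq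
    obtain ⟨d₃⟩ := TildeDerLib.nonempty_rpushTildeDIso φ
    exact ⟨c₁ ≪≫ (resD a).mapIso (d₁.app E) ≪≫ d₂.app _ ≪≫
      (DCoh.Rpush (Spec.map φ)).mapIso (c₂.symm ≪≫ eM) ≪≫ d₃.app M⟩

include hV in
/-- The ring level criterion over an affine open. -/
theorem exists_chart_iff
    (hO : ∀ m : ℤ, DCoh.IsPseudoCoherentD m
      (DCoh.inD Y ((Scheme.Modules.pushforward f).obj (Coh.structureModule X))))
    (E : DCoh.D X) (hE : DCoh.IsQCohD E) (m : ℤ) :
    ∃ (A B : CommRingCat.{u}) (j : Spec A ⟶ Y) (_ : IsOpenImmersion j) (k : Spec B ⟶ X)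
      (_ : IsOpenImmersion k),
      Set.range j = (V : Set Y) ∧ Set.range k = ((f ⁻¹ᵁ V : X.Opens) : Set X) ∧
      (DCoh.IsPseudoCoherentD m ((resD k).obj E) ↔
        DCoh.IsPseudoCoherentD m ((resD j).obj ((DCoh.Rpush f).obj E))) := by
  obtain ⟨A, B, j, hj, k, hk, φ, hrj, hrk, ⟨eO⟩, hch⟩ := exists_chart f V hV
  haveI : PreservesFiniteLimits (tilde.functor (CommRingCat.of A)) :=
    HensSchLib.tilde_preservesFiniteLimits _
  haveI : PreservesFiniteLimits (tilde.functor (CommRingCat.of B)) :=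
    HensSchLib.tilde_preservesFiniteLimits _
  letI : Algebra A B := φ.hom.toAlgebra
  let lB : ((ModuleCat.restrictScalars.{u} φ.hom).obj (ModuleCat.of B B)) ≅ ModuleCat.of A B :=
    LinearEquiv.toModuleIso
      { toFun := fun x => (x : B)
        invFun := fun x => x
        map_add' := fun _ _ => rfl
        map_smul' := fun r x => (Algebra.smul_def (A := B) r (x : B)).symm
        left_inv := fun _ => rfl
        right_inv := fun _ => rfl }
  have hB : DRing.IsPseudoCoherentModule' A B := by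
    refine DRingLib.isPseudoCoherent'_iff_forall.2 fun n => TildePCLib.isPseudoCoherent_of_tildeD ?_
    exact Groth.Agent.PerfLib.isPC_of_iso (resInD j _ ≪≫
      (DerivedCategory.singleFunctor _ 0).mapIso (eO ≪≫ (tilde.functor A).mapIso lB) ≪≫
      (((tilde.functor A).mapDerivedCategorySingleFunctor 0).app (ModuleCat.of A B)).symm)
      (Groth.Agent.PerfLib.isPC_res (hO n) j)
  obtain ⟨M, ⟨eM⟩⟩ := (TildeDerLib.isQCohD_iff B _).1 (isQCohD_res k hE)
  obtain ⟨c⟩ := hch E M ⟨eM.symm⟩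
  refine ⟨A, B, j, hj, k, hk, hrj, hrk, ?_⟩
  have key := TwoTermLib.Restr.isPseudoCoherent_G_iff hB M m
  refine ⟨fun h => Groth.Agent.PerfLib.isPC_of_iso c.symm (TildePCLib.isPC_tildeD (key.1
    (TildePCLib.isPseudoCoherent_of_tildeD (Groth.Agent.PerfLib.isPC_of_iso eM.symm h)))),
    fun h => Groth.Agent.PerfLib.isPC_of_iso eM (TildePCLib.isPC_tildeD (key.2
      (TildePCLib.isPseudoCoherent_of_tildeD (Groth.Agent.PerfLib.isPC_of_iso c h))))⟩

end

/-- Pseudo-coherence is detected after an affine pushforward with pseudo-coherent structure sheaf. -/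
theorem isPC_affine_push_iff (f : X ⟶ Y) [IsAffineHom f] [DCoh.HasRpush f]
    (hO : ∀ m : ℤ, DCoh.IsPseudoCoherentD m
      (DCoh.inD Y ((Scheme.Modules.pushforward f).obj (Coh.structureModule X))))
    (E : DCoh.D X) (hE : DCoh.IsQCohD E) (m : ℤ) :
    DCoh.IsPseudoCoherentD m E ↔ DCoh.IsPseudoCoherentD m ((DCoh.Rpush f).obj E) := by
  constructor
  · intro h
    refine Groth.Agent.PerfLib.isPC_local fun y => ?_
    obtain ⟨V, hV, hy, -⟩ := exists_isAffineOpen_mem_and_subset (U := ⊤) (show y ∈ (⊤ : Y.Opens) from trivial)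
    obtain ⟨A, B, j, hj, k, hk, hrj, -, hiff⟩ := exists_chart_iff f V hV hO E hE m
    obtain ⟨v, hv⟩ : y ∈ Set.range j := by rw [hrj]; exact hy
    exact ⟨_, j, hj, v, hv, hiff.1 (Groth.Agent.PerfLib.isPC_res h k)⟩
  · intro h
    refine Groth.Agent.PerfLib.isPC_local fun x => ?_
    obtain ⟨V, hV, hy, -⟩ := exists_isAffineOpen_mem_and_subset (U := ⊤)
      (show f x ∈ (⊤ : Y.Opens) from trivial)
    obtain ⟨A, B, j, hj, k, hk, -, hrk, hiff⟩ := exists_chart_iff f V hV hO E hE m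
    obtain ⟨v, hv⟩ : x ∈ Set.range k := by rw [hrk]; exact hy
    exact ⟨_, k, hk, v, hv, hiff.2 (Groth.Agent.PerfLib.isPC_res h j)⟩

end Groth.Agent.AffPushPCLib
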