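import Groth.Agent.DCohRestrLib.Scheme

/-!
# `Rf_*` and isomorphisms
-/

set_option autoImplicit false
set_option linter.style.haveILetI false
set_option backward.isDefEq.respectTransparency false
set_option backward.isDefEq.respectTransparency.types false

universe u

open CategoryTheory CategoryTheory.Limits AlgebraicGeometry

attribute [local instance] HasDerivedCategory.standard

namespace Groth.Agent.AffPushPCLib

open Groth.Agent.DerLib Groth.Agent.DCohRestrLib

variable {X X' Y Y' : Scheme.{u}}

/-- Pushforwards along inverse isomorphisms. -/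
noncomputable def pushPairIso (a : X' ⟶ X) (a' : X ⟶ X') (h : a' ≫ a = 𝟙 X) :
    Scheme.Modules.pushforward a' ⋙ Scheme.Modules.pushforward a ≅ 𝟭 X.Modules :=
  Scheme.Modules.pushforwardComp a' a ≪≫ Scheme.Modules.pushforwardCongr h ≪≫
    Scheme.Modules.pushforwardId X

/-- Restriction along an isomorphism is pushforward along its inverse. -/
noncomputable def resIsoPush (a : X' ⟶ X) [IsIso a] :
    Scheme.Modules.restrictFunctor a ≅ Scheme.Modules.pushforward (inv a) :=
  (Scheme.Modules.restrictAdjunction a).leftAdjointUniq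
    (CategoryTheory.Equivalence.mk (Scheme.Modules.pushforward (inv a)) (Scheme.Modules.pushforward a)
      (pushPairIso a (inv a) (IsIso.inv_hom_id a)).symm
      (pushPairIso (inv a) a (IsIso.hom_inv_id a))).toAdjunction

theorem isKInjective_resIso (b : X' ⟶ X) [IsIso b] (I : CochainComplex X.Modules ℤ) [I.IsKInjective] :
    CochainComplex.IsKInjective
      (((Scheme.Modules.restrictFunctor b).mapHomologicalComplex (ComplexShape.up ℤ)).obj I) := by
  haveI := isKInjective_pushCx (inv b) I
  exact CochainComplex.isKInjective_of_iso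
    ((NatIso.mapHomologicalComplex (resIsoPush b) (ComplexShape.up ℤ)).app I).symm

/-- Pushforward commutes with isomorphisms. -/
noncomputable def squareIso (f : X ⟶ Y) (g : X' ⟶ Y') (a : Y' ⟶ Y) [IsIso a] (b : X' ⟶ X) [IsIso b]
    (h : g ≫ a = b ≫ f) :
    Scheme.Modules.pushforward f ⋙ Scheme.Modules.restrictFunctor a ≅
      Scheme.Modules.restrictFunctor b ⋙ Scheme.Modules.pushforward g :=
  Functor.isoWhiskerLeft _ (resIsoPush a) ≪≫ Scheme.Modules.pushforwardComp f (inv a) ≪≫
    Scheme.Modules.pushforwardCongr (by rw [IsIso.comp_inv_eq, Category.assoc, h, IsIso.inv_hom_id_assoc]) ≪≫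
    (Scheme.Modules.pushforwardComp (inv b) g).symm ≪≫
    Functor.isoWhiskerRight (resIsoPush b).symm _

/-- `Rf_*` commutes with isomorphisms of source and target. -/
theorem nonempty_resIso_Rpush (f : X ⟶ Y) (g : X' ⟶ Y') (a : Y' ⟶ Y) [IsIso a] (b : X' ⟶ X) [IsIso b]
    (h : g ≫ a = b ≫ f) [DCoh.HasRpush f] [DCoh.HasRpush g]
    [PreservesFiniteLimits (Scheme.Modules.restrictFunctor a)]
    [PreservesFiniteLimits (Scheme.Modules.restrictFunctor b)] :
    Nonempty (DCoh.Rpush f ⋙ DCoh.restrictD a ≅ DCoh.restrictD b ⋙ DCoh.Rpush g) := by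
  let R1 := Scheme.Modules.restrictFunctor a
  let R2 := Scheme.Modules.restrictFunctor b
  haveI := isRightDerived_exact R2
  let H := R2 ⋙ Scheme.Modules.pushforward g
  haveI := KInjDerived.hasRightDerivedFunctor
    (H.mapHomotopyCategory (ComplexShape.up ℤ) ⋙ DerivedCategory.Qh)
    (KFlatLib.enoughKInj_modules (X := X))
  let RH := (H.mapHomotopyCategory (ComplexShape.up ℤ) ⋙ DerivedCategory.Qh).totalRightDerived
    DerivedCategory.Qh (HomotopyCategory.quasiIso X.Modules (ComplexShape.up ℤ))
  let γ := (H.mapHomotopyCategory (ComplexShape.up ℤ) ⋙ DerivedCategory.Qh).totalRightDerivedUnit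
    DerivedCategory.Qh (HomotopyCategory.quasiIso X.Modules (ComplexShape.up ℤ))
  obtain ⟨e₁⟩ := nonempty_compIso (F := Scheme.Modules.pushforward f) (G := R1) (H := H)
    (squareIso f g a b h) (DCoh.Rpush f) (pushUnit f) R1.mapDerivedCategory
    R1.mapDerivedCategoryFactorsh.inv RH γ KFlatLib.enoughKInj_modules (fun I hI => inferInstance)
  obtain ⟨e₂⟩ := nonempty_compIso (F := R2) (G := Scheme.Modules.pushforward g) (H := H)
    (Iso.refl _) R2.mapDerivedCategory R2.mapDerivedCategoryFactorsh.inv (DCoh.Rpush g)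
    (pushUnit g) RH γ KFlatLib.enoughKInj_modules
    (fun I hI => by haveI := isKInjective_resIso b I; exact isIso_pushUnit g _)
  exact ⟨e₁ ≪≫ e₂.symm⟩

end Groth.Agent.AffPushPCLib
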